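import Groth.Agent.RelTwistX.Loc
import Groth.Agent.Proj16.AwayZero
import Groth.Agent.QCoh.ClosedPush
import Groth.Agent.S13534

/-!
# Adjuncts along open immersions
-/

set_option backward.isDefEq.respectTransparency false
set_option backward.isDefEq.respectTransparency.types false
set_option linter.style.haveILetI false
set_option linter.unusedSectionVars false
set_option autoImplicit false

universe u

open CategoryTheory AlgebraicGeometry TopologicalSpace Opposite

noncomputable section

namespace Groth.Agent.ProjAway

variable {Y Z : Scheme.{u}}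

/-- The adjunct of a map `F ⟶ j_* G` along an open immersion is an isomorphism if the map is bijective on
opens in the range. -/
theorem isIso_adjunct (j : Z ⟶ Y) [IsOpenImmersion j] {F : Y.Modules} {G : Z.Modules}
    (c : F ⟶ (Scheme.Modules.pushforward j).obj G)
    (hc : ∀ U : Y.Opens, U ≤ j.opensRange → Function.Bijective (c.app U)) :
    IsIso (((Scheme.Modules.pullbackPushforwardAdjunction j).homEquiv F G).symm c) := by
  let α := ((Scheme.Modules.restrictAdjunction j).homEquiv F G).symm c
  let α' := ((Scheme.Modules.pullbackPushforwardAdjunction j).homEquiv F G).symm c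
  have hu : (Scheme.Modules.restrictAdjunction j).unit.app F ≫ (Scheme.Modules.pushforward j).map α = c := by
    refine ((Adjunction.homEquiv_unit (adj := Scheme.Modules.restrictAdjunction j) (f := α)).symm.trans ?_)
    exact Equiv.apply_symm_apply _ _
  have hu' : (Scheme.Modules.pullbackPushforwardAdjunction j).unit.app F ≫
      (Scheme.Modules.pushforward j).map α' = c := by
    refine ((Adjunction.homEquiv_unit (adj := Scheme.Modules.pullbackPushforwardAdjunction j) (f := α')).symm.trans ?_)
    exact Equiv.apply_symm_apply _ _
  have hsurj : ∀ V : Z.Opens, ∃ U : Y.Opens, U ≤ j.opensRange ∧ j ⁻¹ᵁ U = V := fun V =>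
    ⟨j ''ᵁ V, j.image_le_opensRange V, j.preimage_image_eq V⟩
  haveI : IsIso α := by
    refine QCoh.isIso_of_isBasis _ (B := Set.univ) (Opens.isBasis_iff_nbhd.2 fun {V p} hp => ⟨V, trivial, hp, le_rfl⟩) fun V _ => ?_
    obtain ⟨U, hU, rfl⟩ := hsurj V
    have h : ⇑(c.app U) = ⇑(α.app (j ⁻¹ᵁ U)) ∘
        ⇑(((Scheme.Modules.restrictAdjunction j).unit.app F).app U) := funext fun s =>
      (congrArg (fun φ : F ⟶ _ => φ.app U s) hu).symm
    refine (Function.Bijective.of_comp_iff _ (S13534.bijective_unit_app' j F U hU)).1 ?_
    rw [← h]
    exact hc U hU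
  have he : α = ((Scheme.Modules.restrictAdjunction j).leftAdjointUniq
      (Scheme.Modules.pullbackPushforwardAdjunction j)).hom.app F ≫ α' := by
    refine ((Scheme.Modules.restrictAdjunction j).homEquiv F G).injective ?_
    rw [Adjunction.homEquiv_unit, Adjunction.homEquiv_unit, hu, Functor.map_comp, ← Category.assoc,
      Adjunction.unit_leftAdjointUniq_hom_app, hu']
  haveI : IsIso (((Scheme.Modules.restrictAdjunction j).leftAdjointUniq
      (Scheme.Modules.pullbackPushforwardAdjunction j)).hom.app F ≫ α') := he ▸ inferInstance
  exact IsIso.of_isIso_comp_left (((Scheme.Modules.restrictAdjunction j).leftAdjointUniq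
      (Scheme.Modules.pullbackPushforwardAdjunction j)).hom.app F) α'

end Groth.Agent.ProjAway
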